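import Groth.Agent.H1Near.SteinConst
import Groth.Agent.H1Spread.Conn
import Groth.Agent.CurveCohLib.SmoothCurve
import Groth.Agent.DvrPushIso
import Mathlib.AlgebraicGeometry.Pullbacks
import Mathlib.AlgebraicGeometry.Morphisms.UniversallyOpen
import Mathlib.AlgebraicGeometry.Morphisms.Smooth
import Mathlib.RingTheory.IntegralClosure.IntegralRestrict

/-! # Generic fibres of proper flat families over a discrete valuation ring with connected reduced
special fibre -/

set_option autoImplicit false
set_option backward.isDefEq.respectTransparency false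
set_option backward.isDefEq.respectTransparency.types false
set_option linter.style.haveILetI false
set_option maxHeartbeats 1000000

universe u

open CategoryTheory CategoryTheory.Limits AlgebraicGeometry TopologicalSpace IsLocalRing
open scoped TensorProduct

namespace Groth.Agent.DvrGenConn

variable {R : Type u} [CommRing R] [IsDomain R] [IsDiscreteValuationRing R] [IsAlgClosed (ResidueField R)]
  {X : Scheme.{u}} (f : X ⟶ Spec (CommRingCat.of R)) [IsProper f] [Flat f]
  {XK : Scheme.{u}} {gK : XK ⟶ X} {fK : XK ⟶ Spec (CommRingCat.of (FractionRing R))}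
  (hK : IsPullback gK fK f (Spec.map (CommRingCat.ofHom (algebraMap R (FractionRing R)))))
  {Xs : Scheme.{u}} {gs : Xs ⟶ X} {fs : Xs ⟶ Spec (CommRingCat.of (ResidueField R))}
  (hs : IsPullback gs fs f (Spec.map (CommRingCat.ofHom (IsLocalRing.residue R))))

include hs in
theorem isReduced_closedFibre [AlgebraicGeometry.IsReduced Xs] :
    AlgebraicGeometry.IsReduced (f.fiber (closedPoint R)) := by
  let P : PrimeSpectrum R := IsLocalRing.closedPoint R
  let eR : IsLocalRing.ResidueField R ≃+* (IsLocalRing.maximalIdeal R).ResidueField :=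
    RingEquiv.ofBijective (algebraMap (R ⧸ IsLocalRing.maximalIdeal R) (IsLocalRing.maximalIdeal R).ResidueField)
      (IsLocalRing.maximalIdeal R).bijective_algebraMap_quotient_residueField
  let e : CommRingCat.of (IsLocalRing.ResidueField R) ≅ (Spec (CommRingCat.of R)).residueField P :=
    eR.toCommRingCatIso ≪≫ (Scheme.Spec.residueFieldIso (CommRingCat.of R) P).symm
  have he' : CommRingCat.ofHom (IsLocalRing.residue R) ≫ eR.toCommRingCatIso.hom =
      CommRingCat.ofHom (algebraMap R P.asIdeal.ResidueField) :=
    CommRingCat.hom_ext (IsScalarTower.algebraMap_eq R (R ⧸ IsLocalRing.maximalIdeal R)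
      (IsLocalRing.maximalIdeal R).ResidueField).symm
  have hsq : IsPullback gs (fs ≫ (asIso (Spec.map e.hom)).inv) f ((Spec (CommRingCat.of R)).fromSpecResidueField P) := by
    refine hs.of_iso (Iso.refl _) (Iso.refl _) (asIso (Spec.map e.hom)).symm (Iso.refl _) (by simp) (by simp) (by simp) ?_
    rw [Iso.refl_hom, Category.comp_id, Iso.symm_hom, Iso.eq_inv_comp, asIso_hom,
      ← Scheme.Spec.map_residueFieldIso_inv_eq_fromSpecResidueField, ← he', Spec.map_comp]
    simp only [e, Iso.trans_hom, Iso.symm_hom, Spec.map_comp, Category.assoc]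
  exact isReduced_of_isOpenImmersion hsq.isoPullback.inv

/-- The map to `Spec R` from the algebraic closure of the fraction field. -/
noncomputable abbrev τF (R : Type u) [CommRing R] [IsDomain R] :
    Spec (CommRingCat.of (AlgebraicClosure (FractionRing R))) ⟶ Spec (CommRingCat.of R) :=
  Spec.map (CommRingCat.ofHom (algebraMap R (AlgebraicClosure (FractionRing R))))

include hK hs in
/-- The geometric generic fibre is connected. -/
theorem connectedSpace_geomGeneric [ConnectedSpace XK] [ConnectedSpace Xs] [AlgebraicGeometry.IsReduced Xs] :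
    ConnectedSpace ↥(pullback f (τF R)) := by
  haveI := isReduced_closedFibre f hs
  haveI : IsLocallyNoetherian X := LocallyOfFiniteType.isLocallyNoetherian f
  have hle := H1Near.nGeomConnComp_generic_le f fun x _ U hU => f.isOpenMap.image_mem_nhds hU
  have hcl : Spec.map (CommRingCat.ofHom (IsLocalRing.residue R)) (H1Near.spt (ResidueField R)) = closedPoint R :=
    IsLocalRing.comap_closedPoint (residue R)
  have hgen : τF R (H1Near.spt (AlgebraicClosure (FractionRing R))) = genericPoint (Spec (CommRingCat.of R)) := by
    refine H1Near.specMap_subtype_closedPoint _ ?_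
    rw [IsScalarTower.algebraMap_eq R (FractionRing R) (AlgebraicClosure (FractionRing R)), RingHom.coe_comp]
    exact (RingHom.injective _).comp (IsFractionRing.injective R (FractionRing R))
  rw [← hcl, ← hgen, H1Spread.nGeomConnComp_eq_card, H1Spread.nGeomConnComp_eq_card] at hle
  haveI : ConnectedSpace ↥(pullback f (Spec.map (CommRingCat.ofHom (IsLocalRing.residue R)))) :=
    hs.isoPullback.schemeIsoToHomeo.surjective.connectedSpace hs.isoPullback.schemeIsoToHomeo.continuous
  have h1 : ENat.card (_root_.ConnectedComponents ↥(pullback f (Spec.map (CommRingCat.ofHom (IsLocalRing.residue R))))) ≤ 1 :=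
    ENat.card_le_one_iff_subsingleton _ |>.2 inferInstance
  haveI hsub : Subsingleton (_root_.ConnectedComponents ↥(pullback f (τF R))) :=
    ENat.card_le_one_iff_subsingleton _ |>.1 (hle.trans h1)
  haveI : PreconnectedSpace ↥(pullback f (τF R)) := by
    refine preconnectedSpace_iff_connectedComponent.2 fun x => Set.eq_univ_of_forall fun y => ?_
    have h : (ConnectedComponents.mk y : _root_.ConnectedComponents ↥(pullback f (τF R))) = ConnectedComponents.mk x :=
      Subsingleton.elim _ _
    exact ConnectedComponents.coe_eq_coe'.1 h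
  have : Nonempty ↥(pullback f (τF R)) := by
    obtain ⟨x⟩ := (inferInstance : Nonempty XK)
    obtain ⟨z, -⟩ := Scheme.Pullback.exists_preimage_pullback (f := f) (g := τF R) (gK x)
      (H1Near.spt _) (by
        rw [hgen, ← Scheme.Hom.comp_apply, hK.w, Scheme.Hom.comp_apply]
        refine (congrArg _ (Subsingleton.elim (α := ↥(Spec (CommRingCat.of (FractionRing R)))) _ (H1Near.spt (FractionRing R)))).trans ?_
        exact H1Near.specMap_subtype_closedPoint _ (IsFractionRing.injective R (FractionRing R)))
    exact ⟨z⟩
  exact { toNonempty := this }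

include hK hs in
/-- The geometric generic fibre is integral. -/
theorem isIntegral_geomGeneric [Smooth fK] [ConnectedSpace XK] [ConnectedSpace Xs]
    [AlgebraicGeometry.IsReduced Xs] : IsIntegral (pullback f (τF R)) := by
  haveI := connectedSpace_geomGeneric f hK hs
  let a : Spec (CommRingCat.of (AlgebraicClosure (FractionRing R))) ⟶ Spec (CommRingCat.of (FractionRing R)) :=
    Spec.map (CommRingCat.ofHom (algebraMap (FractionRing R) (AlgebraicClosure (FractionRing R))))
  have ha : a ≫ Spec.map (CommRingCat.ofHom (algebraMap R (FractionRing R))) = τF R := by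
    rw [← Spec.map_comp, ← CommRingCat.ofHom_comp, ← IsScalarTower.algebraMap_eq]
  let g : pullback f (τF R) ⟶ XK :=
    hK.lift (pullback.fst _ _) (pullback.snd _ _ ≫ a) (by rw [Category.assoc, ha, pullback.condition])
  have hsq : IsPullback g (pullback.snd f (τF R)) fK a := by
    refine IsPullback.of_right ?_ (hK.lift_snd _ _ _) hK
    rw [hK.lift_fst, ha]
    exact IsPullback.of_hasPullback f (τF R)
  haveI : Smooth (pullback.snd f (τF R)) := MorphismProperty.of_isPullback hsq inferInstance
  haveI : CompactSpace ↥(pullback f (τF R)) :=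
    HasAffineProperty.iff_of_isAffine.1 (inferInstance : QuasiCompact (pullback.snd f (τF R)))
  exact CurveCohLib.isIntegral_of_smooth_connected (pullback.snd f (τF R))

include hK hs in
/-- The local ring at a point of the special fibre becomes a field over the algebraic closure of the
fraction field. -/
theorem isField_geomGeneric [Smooth fK] [ConnectedSpace XK] [ConnectedSpace Xs] [AlgebraicGeometry.IsReduced Xs]
    (x : X) (B : Type u) [CommRing B] [IsDomain B] [IsDiscreteValuationRing B] [Algebra R B]
    (e : X.presheaf.stalk x ≅ CommRingCat.of B)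
    (he : e.hom.hom.comp ((X.presheaf.germ ⊤ x trivial).hom.comp (Coh.toGlobal f)) = algebraMap R B)
    (hinj : Function.Injective (algebraMap R B))
    (hmax : IsLocalRing.maximalIdeal B = Ideal.map (algebraMap R B) (IsLocalRing.maximalIdeal R)) :
    IsField (AlgebraicClosure (FractionRing R) ⊗[R] B) := by
  haveI := isIntegral_geomGeneric f hK hs
  let F := AlgebraicClosure (FractionRing R)
  obtain ⟨V, hV, hxV, -⟩ := exists_isAffineOpen_mem_and_subset (x := x) (U := ⊤) trivial
  letI : Algebra R Γ(X, V) := (DvrPushIso.str f V).toAlgebra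
  letI := X.presheaf.algebra_section_stalk ⟨x, hxV⟩
  haveI := hV.isLocalization_stalk ⟨x, hxV⟩
  let p := (hV.primeIdealOf ⟨x, hxV⟩).asIdeal
  let loc : Γ(X, V) →ₐ[R] B :=
    { e.hom.hom.comp (algebraMap Γ(X, V) (X.presheaf.stalk x)) with
      commutes' := fun r => by
        show e.hom (X.presheaf.germ V x hxV (DvrPushIso.str f V r)) = algebraMap R B r
        rw [← he, RingHom.comp_apply, RingHom.comp_apply, ← DvrPushIso.str_res f (homOfLE le_top : V ⟶ ⊤) r,
          TopCat.Presheaf.germ_res_apply]
        simp [DvrPushIso.str, Coh.toGlobal, Scheme.Hom.appLE, Scheme.Hom.appTop] }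
  have hebij := ConcreteCategory.bijective_of_isIso e.hom
  have hsurj : ∀ b : B, ∃ (a : Γ(X, V)) (s : p.primeCompl), b * loc s = loc a ∧ IsUnit (loc s) := by
    intro b
    obtain ⟨σ, rfl⟩ := hebij.2 b
    obtain ⟨⟨a, s⟩, h⟩ := IsLocalization.surj p.primeCompl σ
    refine ⟨a, s, ?_, (IsLocalization.map_units (X.presheaf.stalk x) s).map e.hom.hom⟩
    show e.hom σ * e.hom _ = e.hom _
    rw [← map_mul]
    exact congrArg e.hom.hom h
  let A' := F ⊗[R] Γ(X, V)
  let φ : A' →ₐ[R] F ⊗[R] B := Algebra.TensorProduct.map (AlgHom.id R F) loc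
  -- the affine chart of the geometric generic fibre
  have hstr : hV.fromSpec ≫ f = Spec.map (CommRingCat.ofHom (algebraMap R Γ(X, V))) := by
    rw [← IsAffineOpen.SpecMap_appLE_fromSpec f (isAffineOpen_top _) hV le_top,
      IsAffineOpen.fromSpec_top, Scheme.isoSpec_Spec_inv, ← Spec.map_comp]
    rfl
  let j : Spec (CommRingCat.of A') ⟶ pullback f (τF R) :=
    (pullbackSpecIso R F Γ(X, V)).inv ≫ pullback.lift (pullback.snd _ _ ≫ hV.fromSpec) (pullback.fst _ _) (by
      rw [Category.assoc, hstr, ← pullback.condition])
  haveI : IsOpenImmersion j := by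
    have : IsOpenImmersion (pullback.lift (pullback.snd _ _ ≫ hV.fromSpec) (pullback.fst _ _) (by
        rw [Category.assoc, hstr, ← pullback.condition]) :
        pullback (Spec.map (CommRingCat.ofHom (algebraMap R F))) (Spec.map (CommRingCat.ofHom (algebraMap R Γ(X, V)))) ⟶
          pullback f (τF R)) := by
      refine MorphismProperty.of_isPullback (P := @IsOpenImmersion) (g := hV.fromSpec)
        (f := pullback.fst f (τF R)) (f' := pullback.snd _ _) ?_ inferInstance
      refine IsPullback.of_bot ?_ (pullback.lift_fst _ _ _).symm (IsPullback.of_hasPullback f (τF R))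
      rw [pullback.lift_snd, hstr]
      exact (IsPullback.of_hasPullback _ _).flip
    infer_instance
  haveI hflatF : Module.Flat R F := by
    haveI : Module.IsTorsionFree R F := .trans_faithfulSMul R (FractionRing R) F
    infer_instance
  let incl : B →ₐ[R] F ⊗[R] B := Algebra.TensorProduct.includeRight
  have hone : Function.Injective (Algebra.TensorProduct.includeLeft : F →ₐ[R] F ⊗[R] B) := by
    have h : Function.Injective ((Algebra.linearMap R B).lTensor F) :=
      Module.Flat.lTensor_preserves_injective_linearMap _ hinj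
    intro a b hab
    have := @h (a ⊗ₜ 1) (b ⊗ₜ 1) (by simpa using hab)
    simpa using congrArg (TensorProduct.rid R F) this
  haveI : Nontrivial (F ⊗[R] B) := hone.nontrivial
  haveI : Nontrivial A' := φ.toRingHom.domain_nontrivial
  haveI : Nonempty ↥(Spec (CommRingCat.of A')) := inferInstanceAs (Nonempty (PrimeSpectrum A'))
  haveI : IsIntegral (Spec (CommRingCat.of A')) := isIntegral_of_isOpenImmersion j
  haveI hA' : IsDomain A' := (Scheme.ΓSpecIso (CommRingCat.of A')).commRingCatIsoToRingEquiv.symm.toMulEquiv.isDomain _
  -- reduction to the chart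
  have hden : ∀ z : F ⊗[R] B, ∃ (z' : A') (s : p.primeCompl), z * (1 ⊗ₜ[R] loc s) = φ z' ∧ IsUnit (loc s) := by
    intro z
    induction z using TensorProduct.induction_on with
    | zero => exact ⟨0, 1, by simp, by simp⟩
    | tmul a b =>
      obtain ⟨a', s, h, hu⟩ := hsurj b
      refine ⟨a ⊗ₜ a', s, ?_, hu⟩
      show _ = Algebra.TensorProduct.map (AlgHom.id R F) loc (a ⊗ₜ[R] a')
      rw [Algebra.TensorProduct.map_tmul, Algebra.TensorProduct.tmul_mul_tmul, mul_one, h]
      rfl
    | add z w hz hw =>
      obtain ⟨z', s, h, hu⟩ := hz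
      obtain ⟨w', t, h', hu'⟩ := hw
      refine ⟨z' * (1 ⊗ₜ (t : Γ(X, V))) + w' * (1 ⊗ₜ (s : Γ(X, V))), s * t, ?_, by
        rw [Submonoid.coe_mul, map_mul]; exact hu.mul hu'⟩
      have e1 : (1 : F) ⊗ₜ[R] loc (↑(s * t)) = ((1 : F) ⊗ₜ[R] loc s) * ((1 : F) ⊗ₜ[R] loc t) := by simp
      have e2 : ∀ u : Γ(X, V), φ ((1 : F) ⊗ₜ[R] u) = (1 : F) ⊗ₜ[R] loc u := fun u => by
        show Algebra.TensorProduct.map (AlgHom.id R F) loc ((1 : F) ⊗ₜ[R] u) = _
        rw [Algebra.TensorProduct.map_tmul]; rfl
      rw [e1, map_add, map_mul, map_mul, e2, e2, ← h, ← h']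
      ring
  have hφinj : Function.Injective φ := by
    have hA : IsDomain Γ(X, V) := by
      have hinjA : Function.Injective (Algebra.TensorProduct.includeRight : Γ(X, V) →ₐ[R] A') := by
        haveI : Module.Flat R Γ(X, V) :=
          RingHom.Flat.comp (RingHom.Flat.of_bijective (ConcreteCategory.bijective_of_isIso (Scheme.ΓSpecIso (CommRingCat.of R)).inv))
            (f.flat_appLE (isAffineOpen_top _) hV le_top)
        refine Algebra.TensorProduct.includeRight_injective ?_
        rw [IsScalarTower.algebraMap_eq R (FractionRing R) F, RingHom.coe_comp]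
        exact (RingHom.injective _).comp (IsFractionRing.injective R (FractionRing R))
      exact hinjA.isDomain _
    have hlocinj : Function.Injective loc := by
      intro a b hab
      exact IsLocalization.injective (X.presheaf.stalk x) p.primeCompl_le_nonZeroDivisors (hebij.1 hab)
    have h := Module.Flat.lTensor_preserves_injective_linearMap (M := F) loc.toLinearMap hlocinj
    exact h
  haveI : IsDomain (F ⊗[R] B) := by
    haveI : NoZeroDivisors (F ⊗[R] B) := ⟨fun {a b} hab => by
      obtain ⟨a', s, ha, hus⟩ := hden a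
      obtain ⟨b', t, hb, hut⟩ := hden b
      have : φ (a' * b') = φ 0 := by
        rw [map_mul, ← ha, ← hb, map_zero, mul_mul_mul_comm, hab, zero_mul]
      have hus' : IsUnit ((1 : F) ⊗ₜ[R] loc s) := hus.map incl
      have hut' : IsUnit ((1 : F) ⊗ₜ[R] loc t) := hut.map incl
      rcases mul_eq_zero.1 (hφinj this) with h | h
      · exact Or.inl (hus'.mul_left_eq_zero.1 (by rw [ha, h, map_zero]))
      · exact Or.inr (hut'.mul_left_eq_zero.1 (by rw [hb, h, map_zero]))⟩
    exact NoZeroDivisors.to_isDomain _
  -- every nonzero element of `B` becomes invertible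
  obtain ⟨ϖ, hϖ⟩ := IsDiscreteValuationRing.exists_irreducible R
  have hϖB : Irreducible (algebraMap R B ϖ) := by
    rw [IsDiscreteValuationRing.irreducible_iff_uniformizer, hmax, hϖ.maximalIdeal_eq, Ideal.map_span, Set.image_singleton]
  have hunit : ∀ b : B, b ≠ 0 → IsUnit (incl b) := by
    intro b hb
    obtain ⟨n, v, rfl⟩ := IsDiscreteValuationRing.eq_unit_mul_pow_irreducible hb hϖB
    rw [map_mul, map_pow, AlgHom.commutes]
    refine (v.isUnit.map incl).mul (IsUnit.pow n ?_)
    rw [IsScalarTower.algebraMap_apply R F (F ⊗[R] B)]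
    refine (IsUnit.mk0 _ ?_).map _
    rw [IsScalarTower.algebraMap_apply R (FractionRing R) F, ne_eq, map_eq_zero]
    exact (IsFractionRing.injective R (FractionRing R)).ne (hϖ.ne_zero) |> (by simpa using ·)
  let ψ : FractionRing B →+* F ⊗[R] B :=
    IsLocalization.lift (g := incl.toRingHom) fun s : nonZeroDivisors B => hunit s (nonZeroDivisors.ne_zero s.2)
  letI : Algebra (FractionRing B) (F ⊗[R] B) := ψ.toAlgebra
  have hψ : ∀ b : B, ψ (algebraMap B (FractionRing B) b) = incl b := fun b => IsLocalization.lift_eq _ b
  haveI : Algebra.IsIntegral (FractionRing B) (F ⊗[R] B) := by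
    refine ⟨fun z => ?_⟩
    induction z using TensorProduct.induction_on with
    | zero => exact isIntegral_zero
    | tmul a b =>
      rw [show a ⊗ₜ[R] b = (a ⊗ₜ[R] (1 : B)) * ((1 : F) ⊗ₜ[R] b) by simp]
      refine IsIntegral.mul ?_ ?_
      · -- algebraic over the fraction field of `R`
        haveI : Algebra.IsIntegral (FractionRing R) F := inferInstance
        have hal := Algebra.IsIntegral.isIntegral (R := FractionRing R) a
        let κ : FractionRing R →+* FractionRing B :=
          IsFractionRing.map (A := R) (B := B) (j := algebraMap R B) hinj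
        have hcomm : ψ.comp κ = (Algebra.TensorProduct.includeLeft : F →ₐ[R] F ⊗[R] B).toRingHom.comp
            (algebraMap (FractionRing R) F) := by
          refine IsLocalization.ringHom_ext (nonZeroDivisors R) (RingHom.ext fun r => ?_)
          show ψ (κ (algebraMap R (FractionRing R) r)) = _
          rw [show κ (algebraMap R (FractionRing R) r) = algebraMap B (FractionRing B) (algebraMap R B r) from
            IsLocalization.map_eq _ _, hψ, AlgHom.commutes]
          simp [← IsScalarTower.algebraMap_apply]
        obtain ⟨P, hP, hP0⟩ := hal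
        refine ⟨P.map κ, hP.map κ, ?_⟩
        rw [Polynomial.eval₂_map]
        show Polynomial.eval₂ (ψ.comp κ) _ P = 0
        rw [hcomm]
        exact (Polynomial.hom_eval₂ P _ (Algebra.TensorProduct.includeLeft : F →ₐ[R] F ⊗[R] B).toRingHom a).symm.trans
          (by rw [hP0, map_zero])
      · have : (1 : F) ⊗ₜ[R] b = algebraMap (FractionRing B) (F ⊗[R] B) (algebraMap B (FractionRing B) b) := (hψ b).symm
        rw [this]
        exact isIntegral_algebraMap
    | add z w hz hw => exact hz.add hw
  exact isField_of_isIntegral_of_isField' (Field.toIsField (FractionRing B))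

end Groth.Agent.DvrGenConn
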