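import Groth.Agent.DvrGenConn.Basic
import Mathlib.RingTheory.EssentialFiniteness
import Mathlib.RingTheory.Localization.Submodule

/-! # Base change of a discrete valuation ring of ramification index one along a generically finite
extension of discrete valuation rings -/

set_option autoImplicit false
set_option linter.style.haveILetI false
set_option maxHeartbeats 1000000

universe u

open IsLocalRing
open scoped TensorProduct

namespace Groth.Agent.DvrGenConn

variable (R : Type u) [CommRing R] [IsDomain R] [IsDiscreteValuationRing R] [IsAlgClosed (ResidueField R)]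
  (R' : Type u) [CommRing R'] [IsDomain R'] [IsDiscreteValuationRing R'] [Algebra R R']

omit [IsAlgClosed (ResidueField R)] [IsDiscreteValuationRing R'] in
theorem isAlgebraic_of_genericallyFinite (hinj : Function.Injective (algebraMap R R'))
    [Module.Finite (FractionRing R) (FractionRing R ⊗[R] R')] : Algebra.IsAlgebraic R R' := by
  haveI : Module.IsTorsionFree R R' := by
    rw [Module.isTorsionFree_iff_algebraMap_injective]; exact hinj
  refine ⟨fun x => ?_⟩
  have h : IsAlgebraic (FractionRing R) ((1 : FractionRing R) ⊗ₜ[R] x) :=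
    (Algebra.IsIntegral.isIntegral (R := FractionRing R) _).isAlgebraic
  have h' : IsAlgebraic R ((1 : FractionRing R) ⊗ₜ[R] x) :=
    (IsFractionRing.isAlgebraic_iff R (FractionRing R) _).2 h
  exact (isAlgebraic_algHom_iff (Algebra.TensorProduct.includeRight : R' →ₐ[R] FractionRing R ⊗[R] R')
    (Algebra.TensorProduct.includeRight_injective (IsFractionRing.injective R (FractionRing R)))).1 h'

/-- The residue field extension is trivial. -/
theorem residue_algebraMap_surjective (hinj : Function.Injective (algebraMap R R')) [IsLocalHom (algebraMap R R')] [Algebra.IsAlgebraic R R'] :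
    Function.Surjective (algebraMap (ResidueField R) (ResidueField R')) := by
  haveI : Algebra.IsAlgebraic (ResidueField R) (ResidueField R') := by
    refine ⟨fun z => ?_⟩
    obtain ⟨x, rfl⟩ := residue_surjective z
    obtain ⟨P, hP0, hP⟩ := Algebra.IsAlgebraic.isAlgebraic (R := R) x
    obtain ⟨ϖ, hϖ⟩ := IsDiscreteValuationRing.exists_irreducible R
    have hC : Prime (Polynomial.C ϖ) := Polynomial.prime_C_iff.2 hϖ.prime
    obtain ⟨n, Q, hQ, rfl⟩ := WfDvdMonoid.max_power_factor hP0 hC.irreducible
    rw [map_mul, map_pow, Polynomial.aeval_C, mul_eq_zero] at hP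
    have hne : algebraMap R R' ϖ ^ n ≠ 0 ∨ algebraMap R R' ϖ = 0 := by
      by_cases h : algebraMap R R' ϖ = 0
      · exact Or.inr h
      · exact Or.inl (pow_ne_zero n h)
    have hQx : Polynomial.aeval x Q = 0 ∨ algebraMap R R' ϖ = 0 := by
      rcases hne with h | h
      · exact Or.inl (hP.resolve_left h)
      · exact Or.inr h
    rcases hQx with h | h
    · refine ⟨Q.map (residue R), fun h0 => hQ ?_, ?_⟩
      · rw [Polynomial.C_dvd_iff_dvd_coeff]
        intro i
        have := congrArg (fun p => Polynomial.coeff p i) h0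
        simp only [Polynomial.coeff_map, Polynomial.coeff_zero, residue_eq_zero_iff,
          hϖ.maximalIdeal_eq, Ideal.mem_span_singleton] at this
        exact this
      · have h2 := congrArg (residue R') h
        rw [map_zero, Polynomial.aeval_def, Polynomial.hom_eval₂] at h2
        rw [Polynomial.aeval_def, Polynomial.eval₂_map]
        exact h2
    · exfalso
      exact hϖ.ne_zero ((injective_iff_map_eq_zero _).1 hinj ϖ h)
  exact (IsAlgClosed.algebraMap_bijective_of_isIntegral (k := ResidueField R)).2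

variable (B : Type u) [CommRing B] [IsDomain B] [IsDiscreteValuationRing B] [Algebra R B]

theorem isDiscreteValuationRing_tensor [Algebra.EssFiniteType R B]
    (hinjB : Function.Injective (algebraMap R B))
    (hmax : maximalIdeal B = Ideal.map (algebraMap R B) (maximalIdeal R))
    (hF : IsField (AlgebraicClosure (FractionRing R) ⊗[R] B))
    (hinj : Function.Injective (algebraMap R R')) [IsLocalHom (algebraMap R R')]
    [Module.Finite (FractionRing R) (FractionRing R ⊗[R] R')] :
    ∃ _ : IsDomain (B ⊗[R] R'), IsDiscreteValuationRing (B ⊗[R] R') := by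
  haveI : Algebra.IsAlgebraic R R' := isAlgebraic_of_genericallyFinite R R' hinj
  haveI : Module.IsTorsionFree R R' := by
    rw [Module.isTorsionFree_iff_algebraMap_injective]; exact hinj
  haveI : Module.IsTorsionFree R B := by
    rw [Module.isTorsionFree_iff_algebraMap_injective]; exact hinjB
  let F := AlgebraicClosure (FractionRing R)
  haveI : Module.IsTorsionFree R F := .trans_faithfulSMul R (FractionRing R) F
  let σ : R' →ₐ[R] F := IsAlgClosed.lift
  have hσ : Function.Injective σ := by
    rw [injective_iff_map_eq_zero]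
    intro x hx
    by_contra hx0
    obtain ⟨r, hr, c, hc⟩ := (Algebra.IsAlgebraic.isAlgebraic (R := R) x).exists_nonzero_dvd
      (mem_nonZeroDivisors_of_ne_zero hx0)
    have := congrArg σ hc
    rw [map_mul, hx, zero_mul, AlgHom.commutes, IsScalarTower.algebraMap_apply R (FractionRing R) F,
      map_eq_zero] at this
    exact hr ((injective_iff_map_eq_zero _).1 (IsFractionRing.injective R (FractionRing R)) r this)
  let Φ : B ⊗[R] R' →ₐ[R] F ⊗[R] B :=
    (Algebra.TensorProduct.comm R B F).toAlgHom.comp (Algebra.TensorProduct.map (AlgHom.id R B) σ)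
  have hΦ : Function.Injective Φ :=
    (Algebra.TensorProduct.comm R B F).injective.comp
      (Module.Flat.lTensor_preserves_injective_linearMap (M := B) σ.toLinearMap hσ)
  letI := hF.toField
  haveI hdom : IsDomain (B ⊗[R] R') := hΦ.isDomain _
  refine ⟨hdom, ?_⟩
  -- noetherian
  haveI : Algebra.EssFiniteType R' (R' ⊗[R] B) := Algebra.EssFiniteType.baseChange _ _ _
  haveI : IsNoetherianRing (R' ⊗[R] B) := Algebra.EssFiniteType.isNoetherianRing R' _
  haveI : IsNoetherianRing (B ⊗[R] R') :=
    isNoetherianRing_of_ringEquiv _ (Algebra.TensorProduct.comm R R' B).toRingEquiv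
  obtain ⟨ϖ, hϖ⟩ := IsDiscreteValuationRing.exists_irreducible R
  obtain ⟨π, hπ⟩ := IsDiscreteValuationRing.exists_irreducible R'
  have hϖB : Irreducible (algebraMap R B ϖ) := by
    rw [IsDiscreteValuationRing.irreducible_iff_uniformizer, hmax, hϖ.maximalIdeal_eq, Ideal.map_span, Set.image_singleton]
  let M : Ideal (B ⊗[R] R') := Ideal.span {(1 : B) ⊗ₜ[R] π}
  have hπm : π ∈ maximalIdeal R' := (mem_maximalIdeal π).2 hπ.not_isUnit
  have hϖ' : π ∣ algebraMap R R' ϖ := by
    rw [← Ideal.mem_span_singleton, ← hπ.maximalIdeal_eq, mem_maximalIdeal, mem_nonunits_iff, isUnit_map_iff]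
    exact hϖ.not_isUnit
  have hres := residue_algebraMap_surjective R R' hinj
  -- the residue map
  let ek : ResidueField R ≃+* ResidueField R' :=
    RingEquiv.ofBijective _ ⟨(algebraMap (ResidueField R) (ResidueField R')).injective, hres⟩
  haveI : IsLocalHom (algebraMap R B) := ⟨fun r hr => by
    by_contra h
    have : algebraMap R B r ∈ maximalIdeal B := by
      rw [hmax]; exact Ideal.mem_map_of_mem _ ((mem_maximalIdeal r).2 h)
    exact (mem_maximalIdeal _).1 this hr⟩
  let gR : R' →ₐ[R] ResidueField B :=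
    { ((algebraMap (ResidueField R) (ResidueField B)).comp ek.symm.toRingHom).comp (residue R') with
      commutes' := fun r => by
        have : ek.symm (residue R' (algebraMap R R' r)) = residue R r := by
          rw [RingEquiv.symm_apply_eq]; exact (ResidueField.algebraMap_residue r).symm
        show algebraMap (ResidueField R) (ResidueField B) (ek.symm (residue R' (algebraMap R R' r))) = _
        rw [this, ResidueField.algebraMap_residue]; rfl }
  let ev : B ⊗[R] R' →ₐ[R] ResidueField B :=
    Algebra.TensorProduct.lift (IsScalarTower.toAlgHom R B (ResidueField B)) gR fun _ _ => Commute.all _ _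
  have hMne : M ≠ ⊤ := by
    intro h
    rw [Ideal.span_singleton_eq_top] at h
    have h2 := h.map ev
    have h3 : ev ((1 : B) ⊗ₜ[R] π) = 0 := by
      show algebraMap B (ResidueField B) 1 * gR π = 0
      have : residue R' π = 0 := (residue_eq_zero_iff π).2 hπm
      show _ * (algebraMap (ResidueField R) (ResidueField B) (ek.symm (residue R' π))) = 0
      rw [this, map_zero, map_zero, mul_zero]
    rw [h3] at h2
    exact not_isUnit_zero h2
  have hred : ∀ d : B ⊗[R] R', ∃ b : B, d - b ⊗ₜ[R] (1 : R') ∈ M := by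
    intro d
    induction d using TensorProduct.induction_on with
    | zero => exact ⟨0, by simp⟩
    | tmul b x =>
      obtain ⟨z, hz⟩ := hres (residue R' x)
      obtain ⟨r, rfl⟩ := residue_surjective z
      rw [ResidueField.algebraMap_residue, ← sub_eq_zero, ← map_sub, residue_eq_zero_iff, hπ.maximalIdeal_eq,
        Ideal.mem_span_singleton] at hz
      obtain ⟨t, ht⟩ := hz
      refine ⟨r • b, Ideal.mem_span_singleton.2 ⟨-(b ⊗ₜ[R] t), ?_⟩⟩
      rw [TensorProduct.smul_tmul, Algebra.smul_def, mul_one, mul_neg, Algebra.TensorProduct.tmul_mul_tmul,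
        one_mul, ← ht, TensorProduct.tmul_sub]
      abel
    | add d d' h h' =>
      obtain ⟨b, hb⟩ := h
      obtain ⟨b', hb'⟩ := h'
      refine ⟨b + b', ?_⟩
      rw [TensorProduct.add_tmul, add_sub_add_comm]
      exact M.add_mem hb hb'
  have hMmax : M.IsMaximal := by
    refine Ideal.isMaximal_iff.2 ⟨fun h => hMne ((Ideal.eq_top_iff_one _).2 h), fun J d hMJ hdM hdJ => ?_⟩
    obtain ⟨b, hb⟩ := hred d
    have hbJ : b ⊗ₜ[R] (1 : R') ∈ J := by simpa using J.sub_mem hdJ (hMJ hb)
    have hbu : IsUnit b := by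
      by_contra hb'
      have hbm : b ∈ maximalIdeal B := (mem_maximalIdeal b).2 hb'
      rw [hϖB.maximalIdeal_eq, Ideal.mem_span_singleton] at hbm
      obtain ⟨c, rfl⟩ := hbm
      refine hdM ?_
      have : (algebraMap R B ϖ * c) ⊗ₜ[R] (1 : R') ∈ M := by
        obtain ⟨t, ht⟩ := hϖ'
        refine Ideal.mem_span_singleton.2 ⟨c ⊗ₜ[R] t, ?_⟩
        rw [← Algebra.smul_def, TensorProduct.smul_tmul, Algebra.smul_def, mul_one, ht,
          Algebra.TensorProduct.tmul_mul_tmul, one_mul]
      simpa using M.add_mem hb this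
    exact (Ideal.eq_top_iff_one J).1 (Ideal.eq_top_of_isUnit_mem J hbJ
      (hbu.map (Algebra.TensorProduct.includeLeft : B →ₐ[R] B ⊗[R] R')))
  have hπne : (1 : B) ⊗ₜ[R] π ≠ 0 := by
    intro h
    exact hπ.ne_zero ((injective_iff_map_eq_zero (Algebra.TensorProduct.includeRight : R' →ₐ[R] B ⊗[R] R')).1
      (Algebra.TensorProduct.includeRight_injective hinjB) π h)
  have halgd : ∀ d : B ⊗[R] R', IsAlgebraic B d := by
    intro d
    induction d using TensorProduct.induction_on with
    | zero => exact isAlgebraic_zero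
    | tmul b x =>
      have hx : IsAlgebraic B ((1 : B) ⊗ₜ[R] x) := by
        obtain ⟨P, hP0, hP⟩ := Algebra.IsAlgebraic.isAlgebraic (R := R) x
        refine ⟨P.map (algebraMap R B), (Polynomial.map_ne_zero_iff hinjB).2 hP0, ?_⟩
        rw [Polynomial.aeval_map_algebraMap]
        exact (Polynomial.aeval_algHom_apply (Algebra.TensorProduct.includeRight : R' →ₐ[R] B ⊗[R] R') x P).trans
          (by rw [hP, map_zero])
      have : b ⊗ₜ[R] x = algebraMap B (B ⊗[R] R') b * ((1 : B) ⊗ₜ[R] x) := by
        simp [Algebra.TensorProduct.algebraMap_apply]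
      rw [this]
      exact (isAlgebraic_algebraMap b).mul hx
    | add d d' h h' => exact h.add h'
  have hprime : ∀ Q : Ideal (B ⊗[R] R'), Q.IsPrime → Q ≠ ⊥ → M ≤ Q := by
    intro Q hQ hQ0
    obtain ⟨d, hdQ, hd0⟩ := Submodule.exists_mem_ne_zero_of_ne_bot hQ0
    obtain ⟨b, hb, hdb⟩ := (halgd d).exists_nonzero_dvd (mem_nonZeroDivisors_of_ne_zero hd0)
    obtain ⟨n, v, rfl⟩ := IsDiscreteValuationRing.eq_unit_mul_pow_irreducible hb hϖB
    have hmem := Q.mem_of_dvd hdb hdQ
    rw [map_mul, map_pow, Ideal.unit_mul_mem_iff_mem _ (v.isUnit.map (algebraMap B (B ⊗[R] R')))] at hmem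
    have h1 := hQ.mem_of_pow_mem n hmem
    have hϖR : algebraMap R R' ϖ ≠ 0 := fun h => hϖ.ne_zero ((injective_iff_map_eq_zero _).1 hinj ϖ h)
    obtain ⟨m, w, hw⟩ := IsDiscreteValuationRing.eq_unit_mul_pow_irreducible hϖR hπ
    have h2 : algebraMap B (B ⊗[R] R') (algebraMap R B ϖ) = (1 : B) ⊗ₜ[R] algebraMap R R' ϖ := by
      rw [← IsScalarTower.algebraMap_apply R B (B ⊗[R] R')]
      exact ((Algebra.TensorProduct.includeRight : R' →ₐ[R] B ⊗[R] R').commutes ϖ).symm
    have h3 : (Algebra.TensorProduct.includeRight : R' →ₐ[R] B ⊗[R] R') ((w : R') * π ^ m) ∈ Q := by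
      rw [← hw]; rw [h2] at h1; exact h1
    rw [map_mul, map_pow, Ideal.unit_mul_mem_iff_mem _ (w.isUnit.map (Algebra.TensorProduct.includeRight : R' →ₐ[R] B ⊗[R] R'))] at h3
    exact (Ideal.span_singleton_le_iff_mem _).2 (hQ.mem_of_pow_mem m h3)
  have hMbot : M ≠ ⊥ := fun h => hπne (by simpa [M] using h)
  haveI : IsLocalRing (B ⊗[R] R') := IsLocalRing.of_unique_max_ideal ⟨M, hMmax, fun Q hQ => by
    refine ((hMmax.eq_of_le hQ.ne_top (hprime Q hQ.isPrime fun h => ?_)).symm)
    subst h
    exact hMbot (hQ.eq_of_le hMmax.ne_top bot_le).symm⟩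
  have hnf : ¬ IsField (B ⊗[R] R') := by
    intro h
    letI := h.toField
    rcases Ideal.eq_bot_or_top M with h1 | h1
    exacts [hMbot h1, hMne h1]
  refine ((IsDiscreteValuationRing.TFAE (B ⊗[R] R') hnf).out 0 4).2 ?_
  rw [← IsLocalRing.eq_maximalIdeal hMmax]
  exact ⟨⟨_, rfl⟩⟩

end Groth.Agent.DvrGenConn
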